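import Cfsg.Agent.Lib.FiniteGroup.PolySeq
import Mathlib.Algebra.DirectSum.Basic
import Mathlib.Algebra.Lie.Basic
import Mathlib.GroupTheory.QuotientGroup.Basic
import Mathlib.Tactic.Group
import Mathlib.Tactic.Abel

/-!
# The Lie ring of the lower central series

`LL G` is the direct sum of the factors of the lower central series; `iota n g` is the class of
`g ∈ γ n` in it (zero otherwise), and the bracket is induced by the commutator.
-/

set_option autoImplicit false
set_option linter.unusedSectionVars false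

namespace Cfsg.Agent.LieFpf

open scoped commutatorElement DirectSum

universe u

variable (G : Type u) [Group G]

/-- The lower central series, starting at `⊤`. -/
abbrev lcs (n : ℕ) : Subgroup G := (⊤ : Subgroup G).lowerCentralSeries n

variable {G}

theorem comm_mem {i j : ℕ} {x y : G} (hx : x ∈ lcs G i) (hy : y ∈ lcs G j) :
    ⁅x, y⁆ ∈ lcs G (i + j + 1) :=
  PolySeq.lcs_commutator i j (Subgroup.commutator_mem_commutator hx hy)

theorem lcs_mono {m n : ℕ} (h : m ≤ n) {x : G} (hx : x ∈ lcs G n) : x ∈ lcs G m :=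
  Subgroup.lowerCentralSeries_antitone _ h hx

variable (G)

/-- The factors of the lower central series. -/
abbrev Wq (n : ℕ) : Type u := ↥(lcs G n) ⧸ (lcs G (n + 1)).subgroupOf (lcs G n)

instance wqNormal (n : ℕ) : ((lcs G (n + 1)).subgroupOf (lcs G n)).Normal :=
  Subgroup.Normal.subgroupOf inferInstance _

instance wqCommGroup (n : ℕ) : CommGroup (Wq G n) :=
  { (inferInstance : Group (Wq G n)) with
    mul_comm := by
      intro a b
      obtain ⟨a, rfl⟩ := QuotientGroup.mk_surjective a
      obtain ⟨b, rfl⟩ := QuotientGroup.mk_surjective b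
      rw [← QuotientGroup.mk_mul, ← QuotientGroup.mk_mul, QuotientGroup.eq, Subgroup.mem_subgroupOf]
      refine lcs_mono (show n + 1 ≤ n + n + 1 by omega) ?_
      have h := comm_mem (inv_mem b.2) (inv_mem a.2)
      convert h using 1
      simp only [commutatorElement_def, Subgroup.coe_mul, Subgroup.coe_inv]
      group }

/-- The Lie ring of the lower central series, as a group. -/
abbrev LL : Type u := ⨁ n : ℕ, Additive (Wq G n)

variable {G}

open scoped Classical in
/-- The class of an element of the `n`-th term. -/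
noncomputable def iota (n : ℕ) (g : G) : LL G :=
  if h : g ∈ lcs G n then
    DirectSum.of (fun n => Additive (Wq G n)) n (Additive.ofMul (QuotientGroup.mk ⟨g, h⟩))
  else 0

theorem iota_def {n : ℕ} {g : G} (h : g ∈ lcs G n) :
    iota n g = DirectSum.of (fun n => Additive (Wq G n)) n
      (Additive.ofMul (QuotientGroup.mk (⟨g, h⟩ : lcs G n))) := dif_pos h

theorem iota_mul {n : ℕ} {g h : G} (hg : g ∈ lcs G n) (hh : h ∈ lcs G n) :
    iota n (g * h) = iota n g + iota n h := by
  rw [iota_def hg, iota_def hh, iota_def (mul_mem hg hh), ← map_add]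
  rfl

theorem iota_one (n : ℕ) : iota n (1 : G) = 0 := by
  have h := iota_mul (n := n) (g := (1 : G)) (one_mem _) (one_mem _)
  rw [mul_one] at h
  exact left_eq_add.1 h

theorem iota_inv {n : ℕ} {g : G} (hg : g ∈ lcs G n) : iota n g⁻¹ = -iota n g := by
  rw [eq_neg_iff_add_eq_zero, ← iota_mul (inv_mem hg) hg, inv_mul_cancel, iota_one]

theorem iota_eq_zero_iff {n : ℕ} {g : G} (hg : g ∈ lcs G n) :
    iota n g = 0 ↔ g ∈ lcs G (n + 1) := by
  rw [iota_def hg, map_eq_zero_iff _ (DirectSum.of_injective (β := fun n => Additive (Wq G n)) n), ofMul_eq_zero,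
    QuotientGroup.eq_one_iff, Subgroup.mem_subgroupOf]

theorem iota_eq_zero {n : ℕ} {g : G} (hg : g ∈ lcs G (n + 1)) : iota n g = 0 :=
  (iota_eq_zero_iff (lcs_mono (Nat.le_succ n) hg)).2 hg

theorem iota_conj {n : ℕ} (a : G) {z : G} (hz : z ∈ lcs G n) :
    iota n (a * z * a⁻¹) = iota n z := by
  have h : ⁅a, z⁆ ∈ lcs G (n + 1) := by
    have := comm_mem (show a ∈ lcs G 0 from Subgroup.mem_top a) hz
    rwa [Nat.zero_add] at this
  rw [show a * z * a⁻¹ = ⁅a, z⁆ * z by rw [commutatorElement_def]; group,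
    iota_mul (lcs_mono (Nat.le_succ n) h) hz, iota_eq_zero h, zero_add]

theorem iota_comm_mul_left {i j : ℕ} {x x' y : G} (hx : x ∈ lcs G i) (hx' : x' ∈ lcs G i)
    (hy : y ∈ lcs G j) :
    iota (i + j + 1) ⁅x * x', y⁆ = iota (i + j + 1) ⁅x, y⁆ + iota (i + j + 1) ⁅x', y⁆ := by
  rw [show ⁅x * x', y⁆ = x * ⁅x', y⁆ * x⁻¹ * ⁅x, y⁆ by simp only [commutatorElement_def]; group,
    iota_mul (Subgroup.Normal.conj_mem inferInstance _ (comm_mem hx' hy) _) (comm_mem hx hy),
    iota_conj x (comm_mem hx' hy), add_comm]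

theorem iota_comm_skew {i j : ℕ} {x y : G} (hx : x ∈ lcs G i) (hy : y ∈ lcs G j) :
    iota (j + i + 1) ⁅y, x⁆ = -iota (i + j + 1) ⁅x, y⁆ := by
  rw [← commutatorElement_inv x y, add_comm j i, iota_inv (comm_mem hx hy)]

theorem iota_comm_mul_right {i j : ℕ} {x y y' : G} (hx : x ∈ lcs G i) (hy : y ∈ lcs G j)
    (hy' : y' ∈ lcs G j) :
    iota (i + j + 1) ⁅x, y * y'⁆ = iota (i + j + 1) ⁅x, y⁆ + iota (i + j + 1) ⁅x, y'⁆ := by
  rw [iota_comm_skew (mul_mem hy hy') hx, iota_comm_mul_left hy hy' hx, neg_add,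
    ← iota_comm_skew hy hx, ← iota_comm_skew hy' hx]

/-- The bracket on two factors. -/
noncomputable def brW (i j : ℕ) (a : Additive (Wq G i)) (b : Additive (Wq G j)) : LL G :=
  iota (i + j + 1) ⁅((Additive.toMul a).out : G), ((Additive.toMul b).out : G)⁆

theorem brW_mk {i j : ℕ} (x : lcs G i) (y : lcs G j) :
    brW i j (Additive.ofMul (QuotientGroup.mk x)) (Additive.ofMul (QuotientGroup.mk y)) =
      iota (i + j + 1) ⁅(x : G), (y : G)⁆ := by
  obtain ⟨k, hk⟩ := QuotientGroup.mk_out_eq_mul ((lcs G (i + 1)).subgroupOf (lcs G i)) x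
  obtain ⟨l, hl⟩ := QuotientGroup.mk_out_eq_mul ((lcs G (j + 1)).subgroupOf (lcs G j)) y
  simp only [brW, toMul_ofMul, hk, hl, Subgroup.coe_mul]
  have hk' : ((k : lcs G i) : G) ∈ lcs G (i + 1) := k.2
  have hl' : ((l : lcs G j) : G) ∈ lcs G (j + 1) := l.2
  have hky : iota (i + j + 1) ⁅((k : lcs G i) : G), (y : G) * ((l : lcs G j) : G)⁆ = 0 := by
    refine iota_eq_zero (lcs_mono (le_of_eq ?_) (comm_mem hk' (mul_mem y.2 ?_)))
    · omega
    · exact lcs_mono (Nat.le_succ j) hl'
  have hxl : iota (i + j + 1) ⁅(x : G), ((l : lcs G j) : G)⁆ = 0 :=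
    iota_eq_zero (lcs_mono (le_of_eq (by omega)) (comm_mem x.2 hl'))
  rw [iota_comm_mul_left x.2 (lcs_mono (Nat.le_succ i) hk')
      (mul_mem y.2 (lcs_mono (Nat.le_succ j) hl')), hky, add_zero,
    iota_comm_mul_right x.2 y.2 (lcs_mono (Nat.le_succ j) hl'), hxl, add_zero]

theorem exists_rep {n : ℕ} (w : Additive (Wq G n)) :
    ∃ x : lcs G n, w = Additive.ofMul (QuotientGroup.mk x) :=
  ⟨(Additive.toMul w).out, (congrArg Additive.ofMul (QuotientGroup.out_eq' _).symm)⟩

/-- The bracket on two factors, as a biadditive map. -/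
noncomputable def brHom (i j : ℕ) : Additive (Wq G i) →+ Additive (Wq G j) →+ LL G :=
  AddMonoidHom.mk'
    (fun a => AddMonoidHom.mk' (brW i j a) fun b b' => by
      obtain ⟨x, rfl⟩ := exists_rep a
      obtain ⟨y, rfl⟩ := exists_rep b
      obtain ⟨y', rfl⟩ := exists_rep b'
      rw [← ofMul_mul, ← QuotientGroup.mk_mul, brW_mk, brW_mk, brW_mk, Subgroup.coe_mul,
        iota_comm_mul_right x.2 y.2 y'.2])
    fun a a' => by
      refine AddMonoidHom.ext fun b => ?_
      obtain ⟨x, rfl⟩ := exists_rep a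
      obtain ⟨x', rfl⟩ := exists_rep a'
      obtain ⟨y, rfl⟩ := exists_rep b
      show brW i j _ _ = brW i j _ _ + brW i j _ _
      rw [← ofMul_mul, ← QuotientGroup.mk_mul, brW_mk, brW_mk, brW_mk, Subgroup.coe_mul,
        iota_comm_mul_left x.2 x'.2 y.2]

/-- The bracket. -/
noncomputable def brL : LL G →+ LL G →+ LL G :=
  DirectSum.toAddMonoid fun i =>
    (DirectSum.toAddMonoid fun j => (brHom (G := G) i j).flip).flip

theorem brL_iota {i j : ℕ} {x y : G} (hx : x ∈ lcs G i) (hy : y ∈ lcs G j) :
    brL (iota i x) (iota j y) = iota (i + j + 1) ⁅x, y⁆ := by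
  rw [iota_def hx, iota_def hy, brL, DirectSum.toAddMonoid_of, AddMonoidHom.flip_apply,
    DirectSum.toAddMonoid_of]
  exact brW_mk _ _

/-- Additive properties need only be checked on classes. -/
theorem induction_iota {P : LL G → Prop} (h0 : P 0) (h1 : ∀ n g, g ∈ lcs G n → P (iota n g))
    (hadd : ∀ a b, P a → P b → P (a + b)) (u : LL G) : P u := by
  induction u using DirectSum.induction_on with
  | zero => exact h0
  | of n w =>
    obtain ⟨x, rfl⟩ := exists_rep w
    have := h1 n x x.2
    rwa [iota_def x.2] at this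
  | add a b ha hb => exact hadd a b ha hb

theorem brL_skew (u v : LL G) : brL u v = -brL v u := by
  induction u using induction_iota with
  | h0 => simp
  | hadd a b ha hb => rw [map_add, AddMonoidHom.add_apply, map_add, ha, hb, neg_add]
  | h1 i x hx =>
    induction v using induction_iota with
    | h0 => simp
    | hadd a b ha hb => rw [map_add, map_add, AddMonoidHom.add_apply, ha, hb, neg_add]
    | h1 j y hy => rw [brL_iota hx hy, brL_iota hy hx, iota_comm_skew hy hx]

theorem brL_self (u : LL G) : brL u u = 0 := by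
  induction u using induction_iota with
  | h0 => simp
  | h1 i x hx => rw [brL_iota hx hx, commutatorElement_self, iota_one]
  | hadd a b ha hb =>
    simp only [map_add, AddMonoidHom.add_apply, ha, hb]
    rw [brL_skew a b]; abel

theorem hall_witt (x y z : G) :
    ⁅⁅x, y⁆, y * z * y⁻¹⁆ * ⁅⁅y, z⁆, z * x * z⁻¹⁆ * ⁅⁅z, x⁆, x * y * x⁻¹⁆ = 1 := by
  simp only [commutatorElement_def]; group

theorem iota_comm_conj {i j : ℕ} (a : G) {x y : G} (hx : x ∈ lcs G i) (hy : y ∈ lcs G j) :
    iota (i + j + 1) ⁅x, a * y * a⁻¹⁆ = iota (i + j + 1) ⁅x, y⁆ := by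
  have h : ⁅a, y⁆ ∈ lcs G (j + 1) := by
    have := comm_mem (show a ∈ lcs G 0 from Subgroup.mem_top a) hy
    rwa [Nat.zero_add] at this
  rw [show a * y * a⁻¹ = ⁅a, y⁆ * y by rw [commutatorElement_def]; group,
    iota_comm_mul_right hx (lcs_mono (Nat.le_succ j) h) hy,
    iota_eq_zero (lcs_mono (le_of_eq (by omega)) (comm_mem hx h)), zero_add]

theorem brL_jacobi (u v w : LL G) :
    brL (brL u v) w + brL (brL w u) v + brL (brL v w) u = 0 := by
  induction u using induction_iota with
  | h0 => simp
  | hadd a b ha hb =>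
    simp only [map_add, AddMonoidHom.add_apply]
    calc _ = (brL (brL a v) w + brL (brL w a) v + brL (brL v w) a) +
          (brL (brL b v) w + brL (brL w b) v + brL (brL v w) b) := by abel
      _ = 0 := by rw [ha, hb, add_zero]
  | h1 i x hx =>
    induction v using induction_iota with
    | h0 => simp
    | hadd a b ha hb =>
      simp only [map_add, AddMonoidHom.add_apply]
      calc _ = (brL (brL (iota i x) a) w + brL (brL w (iota i x)) a +
              brL (brL a w) (iota i x)) +
            (brL (brL (iota i x) b) w + brL (brL w (iota i x)) b + brL (brL b w) (iota i x)) := by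
              abel
        _ = 0 := by rw [ha, hb, add_zero]
    | h1 j y hy =>
      induction w using induction_iota with
      | h0 => simp
      | hadd a b ha hb =>
        simp only [map_add, AddMonoidHom.add_apply]
        calc _ = (brL (brL (iota i x) (iota j y)) a + brL (brL a (iota i x)) (iota j y) +
                brL (brL (iota j y) a) (iota i x)) +
              (brL (brL (iota i x) (iota j y)) b + brL (brL b (iota i x)) (iota j y) +
                brL (brL (iota j y) b) (iota i x)) := by abel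
          _ = 0 := by rw [ha, hb, add_zero]
      | h1 k z hz =>
        rw [brL_iota hx hy, brL_iota hz hx, brL_iota hy hz, brL_iota (comm_mem hx hy) hz,
          brL_iota (comm_mem hz hx) hy, brL_iota (comm_mem hy hz) hx,
          ← iota_comm_conj y (comm_mem hx hy) hz, ← iota_comm_conj x (comm_mem hz hx) hy,
          ← iota_comm_conj z (comm_mem hy hz) hx]
        have m1 : ⁅⁅x, y⁆, y * z * y⁻¹⁆ ∈ lcs G (i + j + 1 + k + 1) :=
          comm_mem (comm_mem hx hy) (Subgroup.Normal.conj_mem inferInstance z hz y)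
        have m2 : ⁅⁅z, x⁆, x * y * x⁻¹⁆ ∈ lcs G (i + j + 1 + k + 1) := by
          rw [show i + j + 1 + k + 1 = k + i + 1 + j + 1 by omega]
          exact comm_mem (comm_mem hz hx) (Subgroup.Normal.conj_mem inferInstance y hy x)
        have m3 : ⁅⁅y, z⁆, z * x * z⁻¹⁆ ∈ lcs G (i + j + 1 + k + 1) := by
          rw [show i + j + 1 + k + 1 = j + k + 1 + i + 1 by omega]
          exact comm_mem (comm_mem hy hz) (Subgroup.Normal.conj_mem inferInstance x hx z)
        rw [show k + i + 1 + j + 1 = i + j + 1 + k + 1 by omega,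
          show j + k + 1 + i + 1 = i + j + 1 + k + 1 by omega, add_right_comm, ← iota_mul m1 m3,
          ← iota_mul (mul_mem m1 m3) m2, hall_witt, iota_one]

noncomputable instance instLieRingLL : LieRing (LL G) where
  bracket u v := brL u v
  add_lie u v w := by show brL _ w = brL u w + brL v w; rw [map_add, AddMonoidHom.add_apply]
  lie_add u v w := by show brL u _ = brL u v + brL u w; rw [map_add]
  lie_self u := brL_self u
  leibniz_lie u v w := by
    show brL u (brL v w) = brL (brL u v) w + brL v (brL u w)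
    have h := brL_jacobi u v w
    rw [brL_skew u (brL v w), brL_skew v (brL u w), brL_skew u w, map_neg, AddMonoidHom.neg_apply]
    rw [← sub_eq_zero, ← neg_eq_zero, ← h]
    abel

theorem lie_iota {i j : ℕ} {x y : G} (hx : x ∈ lcs G i) (hy : y ∈ lcs G j) :
    ⁅iota i x, iota j y⁆ = iota (i + j + 1) ⁅x, y⁆ := brL_iota hx hy

end Cfsg.Agent.LieFpf
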