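import Mathlib.Algebra.Lie.Basic
import Mathlib.Algebra.Group.Subgroup.Lattice
import Mathlib.Algebra.Field.ZMod
import Mathlib.Algebra.BigOperators.Group.List.Basic
import Mathlib.Algebra.BigOperators.Ring.Finset
import Mathlib.Data.List.Perm.Basic
import Mathlib.Data.Fintype.Card
import Mathlib.Tactic.Abel

/-!
# Lie rings graded by `ZMod p` with trivial zero component

Kreknin's bound on the derived length and Higman's bound on the class of a family of additive
subgroups indexed by `ZMod p`, closed under brackets, with zero component trivial.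
-/

set_option autoImplicit false
set_option linter.unusedSectionVars false

namespace Cfsg.Agent.LieFpf

variable {L : Type*} [LieRing L] {p : ℕ}

/-- A family of additive subgroups indexed by `ZMod p`. -/
abbrev Fam (L : Type*) [LieRing L] (p : ℕ) := ZMod p → AddSubgroup L

/-- The components of the bracket of two families. -/
def brk (F G : Fam L p) : Fam L p := fun j =>
  AddSubgroup.closure {z | ∃ a b, a + b = j ∧ ∃ x ∈ F a, ∃ y ∈ G b, z = ⁅x, y⁆}

theorem mem_brk {F G : Fam L p} {a b : ZMod p} {x y : L} (hx : x ∈ F a) (hy : y ∈ G b) :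
    ⁅x, y⁆ ∈ brk F G (a + b) :=
  AddSubgroup.subset_closure ⟨a, b, rfl, x, hx, y, hy, rfl⟩

theorem brk_le {F G H : Fam L p}
    (h : ∀ a b x y, x ∈ F a → y ∈ G b → ⁅x, y⁆ ∈ H (a + b)) (j : ZMod p) : brk F G j ≤ H j := by
  refine (AddSubgroup.closure_le _).2 ?_
  rintro z ⟨a, b, rfl, x, hx, y, hy, rfl⟩
  exact h a b x y hx hy

theorem brk_mono {F G F' G' : Fam L p} (hF : ∀ j, F j ≤ F' j) (hG : ∀ j, G j ≤ G' j) (j : ZMod p) :
    brk F G j ≤ brk F' G' j :=
  brk_le (fun a b _ _ hx hy => mem_brk (hF a hx) (hG b hy)) j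

theorem lie_mem_right {S : Set L} {H : AddSubgroup L} {y : L} (h : ∀ s ∈ S, ⁅s, y⁆ ∈ H) {x : L}
    (hx : x ∈ AddSubgroup.closure S) : ⁅x, y⁆ ∈ H := by
  induction hx using AddSubgroup.closure_induction with
  | mem x hx => exact h x hx
  | zero => rw [zero_lie]; exact H.zero_mem
  | add a b _ _ ha hb => rw [add_lie]; exact H.add_mem ha hb
  | neg a _ ha => rw [neg_lie]; exact H.neg_mem ha

theorem lie_mem_left {S : Set L} {H : AddSubgroup L} {x : L} (h : ∀ s ∈ S, ⁅x, s⁆ ∈ H) {y : L}
    (hy : y ∈ AddSubgroup.closure S) : ⁅x, y⁆ ∈ H := by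
  induction hy using AddSubgroup.closure_induction with
  | mem x hx => exact h x hx
  | zero => rw [lie_zero]; exact H.zero_mem
  | add a b _ _ ha hb => rw [lie_add]; exact H.add_mem ha hb
  | neg a _ ha => rw [lie_neg]; exact H.neg_mem ha

/-- Closed under brackets, with trivial zero component. -/
structure Closed (F : Fam L p) : Prop where
  lie_mem : ∀ {a b x y}, x ∈ F a → y ∈ F b → ⁅x, y⁆ ∈ F (a + b)
  zero : ∀ x ∈ F 0, x = 0

/-- The derived series. -/
def der (F : Fam L p) : ℕ → Fam L p
  | 0 => F
  | n + 1 => brk (der F n) (der F n)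

variable {F : Fam L p}

theorem Closed.der_succ (hF : Closed F) :
    ∀ n, Closed (der F n) ∧ ∀ j, der F (n + 1) j ≤ der F n j := by
  intro n
  induction n with
  | zero => exact ⟨hF, brk_le fun a b _ _ => hF.lie_mem⟩
  | succ n ih =>
    obtain ⟨hc, hle⟩ := ih
    have hc' : Closed (der F (n + 1)) :=
      ⟨fun hx hy => mem_brk (hle _ hx) (hle _ hy), fun x hx => hc.zero x (hle _ hx)⟩
    exact ⟨hc', brk_le fun a b _ _ => hc'.lie_mem⟩

theorem Closed.der_closed (hF : Closed F) (n : ℕ) : Closed (der F n) := (hF.der_succ n).1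

theorem Closed.der_le (hF : Closed F) (n : ℕ) (j : ZMod p) : der F n j ≤ F j := by
  induction n with
  | zero => exact le_rfl
  | succ n ih => exact ((hF.der_succ n).2 j).trans ih

theorem der_der (F : Fam L p) (m n : ℕ) : der (der F m) n = der F (m + n) := by
  induction n with
  | zero => rfl
  | succ n ih => rw [der, ih]; rfl

/-- Right-normed products of homogeneous elements of degree at least `k`. -/
inductive Mon (k : ℕ) (F : Fam L p) : ZMod p → L → Prop
  | gen {j : ZMod p} {x : L} : k ≤ j.val → x ∈ F j → Mon k F j x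
  | br {j a : ZMod p} {g w : L} : k ≤ j.val → g ∈ F j → Mon k F a w → Mon k F (j + a) ⁅g, w⁆

/-- The components of the subring generated in degrees at least `k`. -/
def upper (k : ℕ) (F : Fam L p) : Fam L p := fun a => AddSubgroup.closure {x | Mon k F a x}

theorem gen_lie {k : ℕ} {j a : ZMod p} {g v : L} (hj : k ≤ j.val) (hg : g ∈ F j)
    (hv : v ∈ upper k F a) : ⁅g, v⁆ ∈ upper k F (j + a) :=
  lie_mem_left (fun _ hs => AddSubgroup.subset_closure (Mon.br hj hg hs)) hv

theorem upper_lie {k : ℕ} {a b : ZMod p} {x y : L} (hx : x ∈ upper k F a) (hy : y ∈ upper k F b) :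
    ⁅x, y⁆ ∈ upper k F (a + b) := by
  suffices h : ∀ a u, Mon k F a u → ∀ b v, v ∈ upper k F b → ⁅u, v⁆ ∈ upper k F (a + b) from
    lie_mem_right (fun s hs => h a s hs b y hy) hx
  intro a u hu
  induction hu with
  | gen hj hg => exact fun b v hv => gen_lie hj hg hv
  | @br j a g w hj hg _ ih =>
    intro b v hv
    rw [lie_lie]
    refine AddSubgroup.sub_mem _ ?_ ?_
    · rw [add_assoc]; exact gen_lie hj hg (ih b v hv)
    · rw [show j + a + b = a + (j + b) by abel]
      exact ih _ _ (gen_lie hj hg hv)

theorem upper_le_self (hF : Closed F) {k : ℕ} (a : ZMod p) : upper k F a ≤ F a := by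
  refine (AddSubgroup.closure_le _).2 fun x hx => ?_
  induction hx with
  | gen _ hg => exact hg
  | br _ hg _ ih => exact hF.lie_mem hg ih

theorem upper_trans {k k' : ℕ} {F' : Fam L p} (h : ∀ j, k ≤ j.val → F j ≤ upper k' F' j)
    (a : ZMod p) : upper k F a ≤ upper k' F' a := by
  refine (AddSubgroup.closure_le _).2 fun x hx => ?_
  induction hx with
  | gen hj hg => exact h _ hj hg
  | br hj hg _ ih => exact upper_lie (h _ hj hg) ih

theorem upper_eq_zero [NeZero p] {a : ZMod p} {x : L} (hx : x ∈ upper p F a) : x = 0 := by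
  refine AddSubgroup.mem_bot.1 ((AddSubgroup.closure_le _).2 (fun y hy => ?_) hx)
  cases hy with
  | gen hj => exact absurd hj (not_le.2 (ZMod.val_lt _))
  | br hj => exact absurd hj (not_le.2 (ZMod.val_lt _))

/-- Brackets of degree `k` of the subring generated in degrees at least `k` only involve higher
degrees. -/
theorem upper_lie_key [NeZero p] (hF : Closed F) {k : ℕ} (hk : k < p) {a b : ZMod p}
    (hab : a + b = (k : ZMod p)) {u v : L} (hu : u ∈ upper k F a) (hv : v ∈ F b) :
    ⁅u, v⁆ ∈ upper (k + 1) F (k : ZMod p) := by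
  have hkv : (k : ZMod p).val = k := ZMod.val_cast_of_lt hk
  -- two homogeneous elements one of which has degree at least `k`
  have two : ∀ j c : ZMod p, k ≤ j.val → j + c = (k : ZMod p) → ∀ g z, g ∈ F j → z ∈ F c →
      ⁅g, z⁆ ∈ upper (k + 1) F (k : ZMod p) := by
    intro j c hj hjc g z hg hz
    rcases Nat.eq_or_lt_of_le hj with e | hlt
    · have hc0 : c = 0 := by
        have : j = (k : ZMod p) := by rw [e, ZMod.natCast_zmod_val]
        rwa [this, add_eq_left] at hjc
      rw [hc0] at hz
      rw [hF.zero z hz, lie_zero]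
      exact AddSubgroup.zero_mem _
    · have hc : k + 1 ≤ c.val := by
        have h1 := ZMod.val_add j c
        rw [hjc, hkv] at h1
        have h2 := Nat.mod_add_div (j.val + c.val) p
        have := ZMod.val_lt j
        rcases Nat.eq_zero_or_pos ((j.val + c.val) / p) with e | e
        · rw [e, mul_zero] at h2; omega
        · have := Nat.le_mul_of_pos_right p e; omega
      rw [← hjc]
      exact upper_lie (AddSubgroup.subset_closure (Mon.gen hlt hg))
        (AddSubgroup.subset_closure (Mon.gen hc hz))
  refine lie_mem_right (fun s hs => ?_) hu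
  clear hu u
  induction hs generalizing b v with
  | gen hj hg => exact two _ b hj hab _ _ hg hv
  | @br j a g w hj hg hw ih =>
    rw [lie_lie]
    refine AddSubgroup.sub_mem _ (two j (a + b) hj (by rw [← add_assoc]; exact hab) _ _ hg
      (hF.lie_mem (upper_le_self hF a (AddSubgroup.subset_closure hw)) hv)) ?_
    exact ih (by rw [← hab]; abel) (hF.lie_mem hg hv)

/-- Kreknin's induction. -/
theorem der_le_upper [NeZero p] :
    ∀ (i : ℕ), i < p → ∀ (F : Fam L p), Closed F →
      ∀ j, der F (2 ^ i - 1) j ≤ upper (i + 1) F j := by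
  intro i
  induction i with
  | zero =>
    intro _ F hF j x hx
    rcases Nat.eq_zero_or_pos j.val with h | h
    · rw [ZMod.val_eq_zero] at h
      subst h
      rw [hF.zero x hx]
      exact AddSubgroup.zero_mem _
    · exact AddSubgroup.subset_closure (Mon.gen h hx)
  | succ i ih =>
    intro hi F hF j
    set s := 2 ^ i - 1 with hs
    have hidx : 2 ^ (i + 1) - 1 = (s + 1) + s := by
      have := Nat.one_le_two_pow (n := i); rw [pow_succ]; omega
    rw [hidx, ← der_der]
    refine (ih (by omega) _ (hF.der_closed _) j).trans (upper_trans (fun c hc => ?_) j)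
    rcases Nat.eq_or_lt_of_le hc with e | hlt
    · have hcc : c = ((i + 1 : ℕ) : ZMod p) := by rw [e, ZMod.natCast_zmod_val]
      subst hcc
      refine (AddSubgroup.closure_le _).2 ?_
      rintro z ⟨a, b, hab, x, hx, y, hy, rfl⟩
      exact upper_lie_key hF hi hab (ih (by omega) F hF a hx) (hF.der_le _ b hy)
    · intro z hz
      exact AddSubgroup.subset_closure (Mon.gen hlt (hF.der_le _ c hz))

/-- Kreknin's theorem: the derived length is at most `2 ^ (p - 1) - 1`. -/
theorem der_eq_zero [NeZero p] (hF : Closed F) {j : ZMod p} {x : L}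
    (hx : x ∈ der F (2 ^ (p - 1) - 1) j) : x = 0 := by
  have hp := Nat.pos_of_ne_zero (NeZero.ne p)
  have h := der_le_upper (p - 1) (by omega) F hF j hx
  rw [Nat.sub_add_cancel hp] at h
  exact upper_eq_zero h

/-! ### The lower central series -/

/-- The lower central series. -/
def gam (F : Fam L p) : ℕ → Fam L p
  | 0 => F
  | n + 1 => brk (gam F n) F

theorem gam_le (hF : Closed F) (n : ℕ) (j : ZMod p) : gam F n j ≤ F j := by
  induction n generalizing j with
  | zero => exact le_rfl
  | succ n ih => exact brk_le (fun a b x y hx hy => hF.lie_mem (ih a hx) hy) j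

theorem gam_antitone (hF : Closed F) {m n : ℕ} (hmn : m ≤ n) (j : ZMod p) :
    gam F n j ≤ gam F m j := by
  obtain ⟨e, rfl⟩ := Nat.exists_eq_add_of_le hmn
  clear hmn
  induction m generalizing j with
  | zero => exact gam_le hF _ j
  | succ m ih => rw [Nat.add_right_comm]; exact brk_mono ih (fun _ => le_rfl) j

theorem gam_lie (hF : Closed F) : ∀ (l k : ℕ) {a b : ZMod p} {x y : L}, x ∈ gam F k a →
    y ∈ gam F l b → ⁅x, y⁆ ∈ gam F (k + l + 1) (a + b) := by
  intro l
  induction l with
  | zero => exact fun k a b x y hx hy => mem_brk hx hy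
  | succ l ih =>
    intro k a b x y hx hy
    refine lie_mem_left ?_ hy
    rintro _ ⟨b₁, b₂, rfl, u, hu, v, hv, rfl⟩
    rw [leibniz_lie x u v, ← lie_skew u ⁅x, v⁆]
    refine AddSubgroup.add_mem _ ?_ (AddSubgroup.neg_mem _ ?_)
    · rw [show k + (l + 1) + 1 = (k + l + 1) + 1 by omega, ← add_assoc a b₁ b₂]
      exact mem_brk (ih k hx hu) hv
    · rw [show a + (b₁ + b₂) = (a + b₂) + b₁ by abel,
        show k + (l + 1) + 1 = (k + 1) + l + 1 by omega]
      exact ih (k + 1) (mem_brk hx hv) hu

theorem der_ideal (hF : Closed F) : ∀ (n : ℕ) {a b : ZMod p} {x y : L}, x ∈ der F n a →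
    y ∈ F b → ⁅x, y⁆ ∈ der F n (a + b) := by
  intro n
  induction n with
  | zero => exact fun hx hy => hF.lie_mem hx hy
  | succ n ih =>
    intro a b x y hx hy
    refine lie_mem_right ?_ hx
    rintro _ ⟨a₁, a₂, rfl, u, hu, v, hv, rfl⟩
    rw [lie_lie]
    refine AddSubgroup.sub_mem _ ?_ ?_
    · rw [add_assoc]; exact mem_brk hu (ih hv hy)
    · rw [show a₁ + a₂ + b = a₂ + (a₁ + b) by abel]
      exact mem_brk hv (ih hu hy)

/-- The sums of sublists cover everything once there are `p - 1` non-zero entries. -/
theorem exists_sublist_sum [Fact p.Prime] (l : List (ZMod p)) (h0 : ∀ b ∈ l, b ≠ 0)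
    (hl : p ≤ l.length + 1) (t : ZMod p) : ∃ s : List (ZMod p), s.Sublist l ∧ s.sum = t := by
  classical
  let S : List (ZMod p) → Finset (ZMod p) := fun l =>
    Finset.univ.filter fun t => ∃ s : List (ZMod p), s.Sublist l ∧ s.sum = t
  suffices h : ∀ l : List (ZMod p), (∀ b ∈ l, b ≠ 0) → min p (l.length + 1) ≤ (S l).card by
    have h1 := h l h0
    rw [min_eq_left hl] at h1
    have h2 : S l = Finset.univ := Finset.eq_univ_of_card _
      (le_antisymm (Finset.card_le_univ _) (by rwa [ZMod.card]))
    have := Finset.mem_univ t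
    rw [← h2] at this
    exact (Finset.mem_filter.1 this).2
  intro l
  induction l with
  | nil =>
    intro _
    refine le_trans (min_le_right _ _) (Finset.card_pos.2 ⟨0, ?_⟩)
    exact Finset.mem_filter.2 ⟨Finset.mem_univ _, [], List.Sublist.refl _, rfl⟩
  | cons b l ih =>
    intro h0
    have hb : b ≠ 0 := h0 b List.mem_cons_self
    have ih' := ih fun c hc => h0 c (List.mem_cons_of_mem _ hc)
    have hsub : S l ⊆ S (b :: l) := fun t ht => by
      obtain ⟨s, hs, hsum⟩ := (Finset.mem_filter.1 ht).2
      exact Finset.mem_filter.2 ⟨Finset.mem_univ _, s, hs.cons _, hsum⟩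
    by_cases hall : S l = Finset.univ
    · rw [hall] at hsub
      exact le_trans (min_le_left _ _) (le_trans (ZMod.card p).ge (Finset.card_le_card hsub))
    · have hne : ∃ t, t ∈ S (b :: l) ∧ t ∉ S l := by
        by_contra hno
        push Not at hno
        have hadd : ∀ t ∈ S l, b + t ∈ S l := fun t ht => hno _ (by
          obtain ⟨s, hs, hsum⟩ := (Finset.mem_filter.1 ht).2
          exact Finset.mem_filter.2 ⟨Finset.mem_univ _, b :: s, hs.cons_cons b,
            by rw [List.sum_cons, hsum]⟩)
        have hmem : ∀ n : ℕ, (n : ZMod p) * b ∈ S l := by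
          intro n
          induction n with
          | zero =>
            refine Finset.mem_filter.2 ⟨Finset.mem_univ _, [], List.nil_sublist _, ?_⟩
            rw [List.sum_nil, Nat.cast_zero, zero_mul]
          | succ n ihn => rw [Nat.cast_succ, add_mul, one_mul, add_comm]; exact hadd _ ihn
        refine hall (Finset.eq_univ_iff_forall.2 fun t => ?_)
        have := hmem (t / b).val
        rwa [ZMod.natCast_zmod_val, div_mul_cancel₀ _ hb] at this
      obtain ⟨t, ht, ht'⟩ := hne
      have : (S l).card < (S (b :: l)).card :=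
        Finset.card_lt_card (Finset.ssubset_iff_subset_ne.2 ⟨hsub, fun e => ht' (e ▸ ht)⟩)
      simp only [List.length_cons]
      omega

/-- A weighted homogeneous operator. -/
abbrev Op (L : Type*) (p : ℕ) := ℕ × ZMod p × L

/-- Successive brackets. -/
def app (x : L) (l : List (Op L p)) : L := l.foldl (fun u t => ⁅u, t.2.2⁆) x

/-- The degree of a sequence of operators. -/
def degs (l : List (Op L p)) : ZMod p := (l.map fun t => t.2.1).sum

/-- The weight of a sequence of operators. -/
def wt (l : List (Op L p)) : ℕ := (l.map fun t => t.1 + 1).sum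

theorem app_cons (x : L) (t : Op L p) (l : List (Op L p)) : app x (t :: l) = app ⁅x, t.2.2⁆ l := rfl

theorem app_append (x : L) (l l' : List (Op L p)) : app x (l ++ l') = app (app x l) l' :=
  List.foldl_append

theorem app_add (l : List (Op L p)) (x y : L) : app (x + y) l = app x l + app y l := by
  induction l generalizing x y with
  | nil => rfl
  | cons t l ih => simp only [app_cons, add_lie, ih]

theorem app_zero (l : List (Op L p)) : app 0 l = 0 := by
  induction l with
  | nil => rfl
  | cons t l ih => simp only [app_cons, zero_lie, ih]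

theorem app_neg (l : List (Op L p)) (x : L) : app (-x) l = -app x l := by
  rw [eq_neg_iff_add_eq_zero, ← app_add, neg_add_cancel, app_zero]

theorem app_mem {K : Fam L p}
    (hK : ∀ {a b : ZMod p} {x y : L}, x ∈ K a → y ∈ F b → ⁅x, y⁆ ∈ K (a + b)) (hF : Closed F) :
    ∀ (l : List (Op L p)), (∀ t ∈ l, t.2.2 ∈ gam F t.1 t.2.1) → ∀ {a : ZMod p} {x : L},
      x ∈ K a → app x l ∈ K (a + degs l) := by
  intro l
  induction l with
  | nil => intro _ a x hx; simpa [degs, app] using hx
  | cons t l ih =>
    intro hl a x hx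
    have := ih (fun s hs => hl s (List.mem_cons_of_mem _ hs))
      (hK hx (gam_le hF _ _ (hl t List.mem_cons_self)))
    simpa [degs, app_cons, add_assoc] using this

/-- Higman's lemma: sufficiently heavy products of operators map the last term into the next. -/
theorem app_heavy [Fact p.Prime] (hF : Closed F) {n c : ℕ}
    (hc : ∀ j, gam F c j ≤ der F n j) :
    ∀ (r : ℕ) (l : List (Op L p)), l.length = r → (∀ t ∈ l, t.2.2 ∈ gam F t.1 t.2.1) →
      (p - 2) * c < wt l → ∀ {a : ZMod p} {x : L}, x ∈ der F n a →
        app x l ∈ der F (n + 1) (a + degs l) := by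
  classical
  intro r
  induction r using Nat.strong_induction_on with
  | _ r ih =>
    intro l hlen hl hw a x hx
    have hI := @der_ideal L _ p F hF n
    have hJ := @der_ideal L _ p F hF (n + 1)
    have hbad : ∀ pre t post, l = pre ++ t :: post → (c ≤ t.1 ∨ t.2.1 = 0) →
        app x l ∈ der F (n + 1) (a + degs l) := by
      intro pre t post e hbad
      have htl : t.2.2 ∈ gam F t.1 t.2.1 := hl t (by rw [e]; simp)
      have h1 := app_mem (K := der F n) hI hF pre (fun s hs => hl s (by rw [e]; simp [hs])) hx
      have h2 : ⁅app x pre, t.2.2⁆ ∈ der F (n + 1) (a + degs pre + t.2.1) := by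
        rcases hbad with hb | hb
        · rw [der]
          exact mem_brk h1 (hc t.2.1 (gam_antitone hF hb t.2.1 htl))
        · rw [hb] at htl
          rw [hF.zero _ (gam_le hF _ _ htl), lie_zero]
          exact AddSubgroup.zero_mem _
      have h3 := app_mem (K := der F (n + 1)) hJ hF post (fun s hs => hl s (by rw [e]; simp [hs])) h2
      rw [e, app_append, app_cons]
      convert h3 using 2
      simp only [degs, List.map_append, List.map_cons, List.sum_append, List.sum_cons]
      abel
    by_cases hex : ∃ t ∈ l, c ≤ t.1 ∨ t.2.1 = 0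
    · obtain ⟨t, ht, hb⟩ := hex
      obtain ⟨pre, post, e⟩ := List.append_of_mem ht
      exact hbad pre t post e hb
    push Not at hex
    have hrp : p ≤ r + 1 := by
      have h1 : wt l ≤ r * c := by
        have h := List.sum_le_card_nsmul (l.map fun t => t.1 + 1) c (by
          intro w hw'
          obtain ⟨t, ht, rfl⟩ := List.mem_map.1 hw'
          exact (hex t ht).1)
        rw [List.length_map, hlen, smul_eq_mul] at h
        exact h
      have h2 := Nat.lt_of_lt_of_le hw h1
      have h3 := Nat.lt_of_mul_lt_mul_right h2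
      omega
    -- invariance under permutations
    have hperm : ∀ l₁ l₂ : List (Op L p), List.Perm l₁ l₂ → ∀ pre : List (Op L p),
        (pre ++ l₁).length = r → (∀ t ∈ pre ++ l₁, t.2.2 ∈ gam F t.1 t.2.1) →
        (p - 2) * c < wt (pre ++ l₁) →
        app x (pre ++ l₁) - app x (pre ++ l₂) ∈ der F (n + 1) (a + degs (pre ++ l₁)) := by
      intro l₁ l₂ hp12
      induction hp12 with
      | nil => intro pre _ _ _; rw [sub_self]; exact AddSubgroup.zero_mem _
      | cons t _ ihp =>
        intro pre h1 h2 h3
        have := ihp (pre ++ [t]) (by simpa using h1) (by simpa using h2) (by simpa using h3)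
        simpa using this
      | swap t s post =>
        intro pre h1 h2 h3
        have hs' := h2 s (by simp)
        have ht' := h2 t (by simp)
        have hm : ⁅s.2.2, t.2.2⁆ ∈ gam F (s.1 + t.1 + 1) (s.2.1 + t.2.1) :=
          gam_lie hF _ _ hs' ht'
        have key := ih (r - 1) (by simp at h1; omega)
          (pre ++ (s.1 + t.1 + 1, s.2.1 + t.2.1, ⁅s.2.2, t.2.2⁆) :: post)
          (by simp at h1 ⊢; omega)
          (fun q hq => by
            rcases List.mem_append.1 hq with hq | hq
            · exact h2 q (by simp [hq])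
            · rcases List.mem_cons.1 hq with rfl | hq
              · exact hm
              · exact h2 q (by simp [hq]))
          (by simp [wt] at h3 ⊢; omega) hx
        have e : app x (pre ++ s :: t :: post) - app x (pre ++ t :: s :: post) =
            app x (pre ++ (s.1 + t.1 + 1, s.2.1 + t.2.1, ⁅s.2.2, t.2.2⁆) :: post) := by
          simp only [app_append, app_cons]
          rw [sub_eq_iff_eq_add, ← app_add, leibniz_lie (app x pre) s.2.2 t.2.2,
            ← lie_skew s.2.2 ⁅app x pre, t.2.2⁆]
          congr 1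
          abel
        rw [e]
        convert key using 2
        simp only [degs, List.map_append, List.map_cons, List.sum_append, List.sum_cons]
        abel
      | @trans l₁ l₂ l₃ h12 _ ih1 ih2 =>
        intro pre h1 h2 h3
        have hp := List.Perm.append_left pre h12
        have e1 := ih1 pre h1 h2 h3
        have e2 := ih2 pre (hp.length_eq ▸ h1) (fun q hq => h2 q (hp.mem_iff.2 hq))
          (by rwa [wt, ← (hp.map _).sum_eq])
        rw [degs, ← (hp.map _).sum_eq] at e2
        have := AddSubgroup.add_mem _ e1 e2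
        rwa [sub_add_sub_cancel] at this
    obtain ⟨s, hs, hsum⟩ := exists_sublist_sum (l.map fun t => t.2.1) (fun b hb => by
      obtain ⟨t, ht, rfl⟩ := List.mem_map.1 hb
      exact (hex t ht).2) (by rw [List.length_map, hlen]; exact hrp) (-a)
    obtain ⟨l₁, hl₁, rfl⟩ := List.sublist_map_iff.1 hs
    obtain ⟨l₂, hl₂⟩ := hl₁.exists_perm_append
    have hzero : app x (l₁ ++ l₂) = 0 := by
      have h := app_mem (K := der F n) hI hF l₁ (fun t ht => hl t (hl₁.subset ht)) hx
      rw [show a + degs l₁ = 0 by rw [degs, hsum, add_neg_cancel]] at h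
      rw [app_append, hF.zero _ (hF.der_le n 0 h), app_zero]
    have := hperm l (l₁ ++ l₂) hl₂ [] (by simpa using hlen) (by simpa using hl) (by simpa using hw)
    simpa [hzero] using this

/-- The recursion for the class: `1 + (p - 1) + ⋯ + (p - 1) ^ (n - 1)`. -/
def bound (p n : ℕ) : ℕ := Finset.sum (Finset.range n) fun i => (p - 1) ^ i

theorem gam_le_der [Fact p.Prime] (hF : Closed F) :
    ∀ (n : ℕ) (j : ZMod p), gam F (bound p n) j ≤ der F n j := by
  intro n
  induction n with
  | zero => intro j; exact le_rfl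
  | succ n ih =>
    intro j x hx
    set c := bound p n
    have hb : bound p (n + 1) = c + ((p - 2) * c + 1) := by
      have h2 : 2 ≤ p := (Fact.out : p.Prime).two_le
      have e : bound p (n + 1) = (p - 1) * c + 1 := by
        show Finset.sum _ _ = (p - 1) * Finset.sum _ _ + 1
        rw [Finset.sum_range_succ', Finset.mul_sum, pow_zero]
        exact congrArg (· + 1) (Finset.sum_congr rfl fun i _ => pow_succ' _ i)
      rw [e, show p - 1 = p - 2 + 1 by omega, add_mul, one_mul]
      omega
    suffices h : ∀ (m : ℕ) (l : List (Op L p)), (∀ t ∈ l, t.1 = 0 ∧ t.2.2 ∈ F t.2.1) →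
        m + l.length = (p - 2) * c + 1 → ∀ {a : ZMod p} {z : L}, z ∈ gam F (c + m) a →
          app z l ∈ der F (n + 1) (a + degs l) by
      rw [hb] at hx
      have := h _ [] (by simp) (by simp) hx
      simpa [app, degs] using this
    intro m
    induction m with
    | zero =>
      intro l hl hlen a z hz
      refine app_heavy hF ih l.length l rfl (fun t ht => ?_) ?_ (ih a hz)
      · rw [(hl t ht).1]; exact (hl t ht).2
      · have : wt l = l.length := by
          rw [wt, List.map_congr_left (g := fun _ => 1) fun t ht => by rw [(hl t ht).1]]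
          simp
        omega
    | succ m ihm =>
      intro l hl hlen a z hz
      let T : L →+ L := AddMonoidHom.mk' (fun u => app u l) (app_add l)
      show T z ∈ _
      refine ((AddSubgroup.closure_le ((der F (n + 1) (a + degs l)).comap T)).2 ?_) hz
      rintro _ ⟨a₁, a₂, rfl, u, hu, v, hv, rfl⟩
      have := ihm ((0, a₂, v) :: l) (by
        intro t ht
        rcases List.mem_cons.1 ht with rfl | ht
        · exact ⟨rfl, hv⟩
        · exact hl t ht) (by simp only [List.length_cons]; omega) hu
      rw [SetLike.mem_coe, AddSubgroup.mem_comap]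
      show app ⁅u, v⁆ l ∈ _
      simpa [degs, app_cons, add_assoc] using this

/-- The class bound. -/
theorem gam_eq_zero [Fact p.Prime] (hF : Closed F) {j : ZMod p} {x : L}
    (hx : x ∈ gam F (bound p (2 ^ (p - 1) - 1)) j) : x = 0 :=
  der_eq_zero hF (gam_le_der hF _ j hx)

/-- For `p = 3` the class is at most two. -/
theorem gam_two_eq_zero {F : Fam L 3} (hF : Closed F) {j : ZMod 3} {x : L}
    (hx : x ∈ gam F 2 j) : x = 0 := by
  have hmix : ∀ (a b : ZMod 3) {u v : L}, a ≠ b → u ∈ F a → v ∈ F b → ⁅u, v⁆ = 0 := by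
    intro a b u v hab hu hv
    rcases (by decide : ∀ a b : ZMod 3, a ≠ b → a = 0 ∨ b = 0 ∨ a + b = 0) a b hab with h | h | h
    · rw [h] at hu; rw [hF.zero u hu, zero_lie]
    · rw [h] at hv; rw [hF.zero v hv, lie_zero]
    · have := hF.lie_mem hu hv
      rw [h] at this
      exact hF.zero _ this
  refine AddSubgroup.mem_bot.1 ((AddSubgroup.closure_le _).2 ?_ hx)
  rintro _ ⟨a, b, -, u, hu, v, hv, rfl⟩
  refine lie_mem_right ?_ hu
  rintro _ ⟨a₁, a₂, rfl, s, hs, t, ht, rfl⟩
  refine AddSubgroup.mem_bot.2 ?_
  by_cases h12 : a₁ = a₂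
  · subst h12
    by_cases hb : a₁ = b
    · subst hb
      by_cases h0 : a₁ = 0
      · subst h0; rw [hF.zero s hs, zero_lie, zero_lie]
      exact hmix (a₁ + a₁) a₁ (fun e => h0 (add_eq_right.1 e)) (hF.lie_mem hs ht) hv
    · rw [lie_lie, hmix a₁ b hb hs hv, lie_zero, hmix a₁ b hb ht hv, lie_zero, sub_zero]
  · rw [hmix a₁ a₂ h12 hs ht, zero_lie]

end Cfsg.Agent.LieFpf
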