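import Cfsg.Agent.Lib.LieFpf.Assoc
import Cfsg.Agent.Lib.LieFpf.Kreknin
import Cfsg.Agent.Lib.PLocal.FixedPointFree
import Mathlib.Algebra.Lie.BaseChange
import Mathlib.RingTheory.AdjoinRoot
import Mathlib.RingTheory.Polynomial.Cyclotomic.Basic
import Mathlib.GroupTheory.PGroup

/-!
# The class of a group with a fixed-point-free automorphism of prime order

The Lie ring of the lower central series, with the `p`-th roots of unity adjoined, is graded by
the eigenvalues of the automorphism.
-/

set_option autoImplicit false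
set_option linter.unusedSectionVars false

namespace Cfsg.Agent.LieFpf

open scoped commutatorElement DirectSum TensorProduct

universe u

section Induced

variable {G : Type u} [Group G] (α : MulAut G)

theorem map_mem_lcs {n : ℕ} {g : G} (hg : g ∈ lcs G n) : α g ∈ lcs G n :=
  lowerCentralSeries_mono' (Subgroup.mem_map_of_mem α.toMonoidHom hg)
where
  lowerCentralSeries_mono' {n : ℕ} {g : G} (h : g ∈ (lcs G n).map α.toMonoidHom) : g ∈ lcs G n := by
    rw [Subgroup.map_lowerCentralSeries] at h
    exact Subgroup.lowerCentralSeries_mono n le_top h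

/-- The induced map on a factor. -/
noncomputable def aW (n : ℕ) : Additive (Wq G n) →+ LL G :=
  MonoidHom.toAdditiveLeft (QuotientGroup.lift _
    (MonoidHom.mk' (fun g : lcs G n => Multiplicative.ofAdd (iota n (α (g : G))))
      fun a b => by
        rw [Subgroup.coe_mul, map_mul, iota_mul (map_mem_lcs α a.2) (map_mem_lcs α b.2)]; rfl)
    (fun g hg => by
      rw [MonoidHom.mem_ker, MonoidHom.mk'_apply,
        iota_eq_zero (map_mem_lcs α (Subgroup.mem_subgroupOf.1 hg))]
      rfl))

/-- The induced map on the Lie ring. -/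
noncomputable def aL : LL G →ₗ[ℤ] LL G := (DirectSum.toAddMonoid (aW α)).toIntLinearMap

theorem aL_iota {n : ℕ} {g : G} (hg : g ∈ lcs G n) : aL α (iota n g) = iota n (α g) := by
  rw [iota_def hg]
  simp only [aL, AddMonoidHom.coe_toIntLinearMap, DirectSum.toAddMonoid_of]
  rfl

theorem aL_lie (u v : LL G) : aL α ⁅u, v⁆ = ⁅aL α u, aL α v⁆ := by
  induction u using induction_iota with
  | h0 => simp
  | hadd a b ha hb => simp only [add_lie, map_add, ha, hb]
  | h1 i x hx =>
    induction v using induction_iota with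
    | h0 => simp
    | hadd a b ha hb => simp only [lie_add, map_add, ha, hb]
    | h1 j y hy =>
      rw [lie_iota hx hy, aL_iota α hx, aL_iota α hy, aL_iota α (comm_mem hx hy),
        lie_iota (map_mem_lcs α hx) (map_mem_lcs α hy), map_commutatorElement]

theorem pow_mem_lcs (k : ℕ) {n : ℕ} {g : G} (hg : g ∈ lcs G n) : (α ^ k) g ∈ lcs G n :=
  map_mem_lcs _ hg

theorem aL_pow_iota (k : ℕ) {n : ℕ} {g : G} (hg : g ∈ lcs G n) :
    (aL α ^ k) (iota n g) = iota n ((α ^ k) g) := by
  induction k with
  | zero => rfl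
  | succ k ih =>
    rw [pow_succ', Module.End.mul_apply, ih, aL_iota α (pow_mem_lcs α k hg), pow_succ',
      MulAut.mul_apply]

theorem exists_sub [Finite G] (hfpf : ∀ g : G, α g = g → g = 1) {n : ℕ} {g : G}
    (hg : g ∈ lcs G n) : ∃ h ∈ lcs G n, g = h⁻¹ * α h := by
  have hinj : Function.Injective fun h : lcs G n =>
      (⟨(h : G)⁻¹ * α h, mul_mem (inv_mem h.2) (map_mem_lcs α h.2)⟩ : lcs G n) := by
    intro x y h
    have h' : (x : G)⁻¹ * α x = (y : G)⁻¹ * α y := congrArg Subtype.val h
    have h'' : α ((y : G) * (x : G)⁻¹) = (y : G) * (x : G)⁻¹ := by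
      rw [map_mul, map_inv,
        show α (y : G) = (y : G) * ((x : G)⁻¹ * α x) by rw [h', mul_inv_cancel_left]]
      group
    exact (Subtype.ext (mul_inv_eq_one.1 (hfpf _ h''))).symm
  obtain ⟨h, hh⟩ := Finite.injective_iff_surjective.1 hinj ⟨g, hg⟩
  exact ⟨h, h.2, (congrArg Subtype.val hh).symm⟩

theorem sum_aL_pow [Finite G] (hfpf : ∀ g : G, α g = g → g = 1) {p : ℕ} (hα : α ^ p = 1)
    (u : LL G) : ∑ k ∈ Finset.range p, (aL α ^ k) u = 0 := by
  induction u using induction_iota with
  | h0 => simp
  | hadd a b ha hb => simp only [map_add, Finset.sum_add_distrib, ha, hb, add_zero]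
  | h1 n g hg =>
    obtain ⟨h, hh, rfl⟩ := exists_sub α hfpf hg
    have hk : ∀ k, (aL α ^ k) (iota n (h⁻¹ * α h)) =
        iota n ((α ^ (k + 1)) h) - iota n ((α ^ k) h) := fun k => by
      rw [aL_pow_iota α k hg, map_mul, map_inv,
        iota_mul (inv_mem (pow_mem_lcs α k hh)) (pow_mem_lcs α k (map_mem_lcs α hh)),
        iota_inv (pow_mem_lcs α k hh), pow_succ, MulAut.mul_apply, neg_add_eq_sub]
    rw [Finset.sum_congr rfl fun k _ => hk k,
      Finset.sum_range_sub fun k => iota n ((α ^ k) h), hα, pow_zero, sub_self]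

theorem iota_pow {n : ℕ} {g : G} (hg : g ∈ lcs G n) (k : ℕ) :
    iota n (g ^ k) = k • iota n g := by
  induction k with
  | zero => rw [pow_zero, iota_one, zero_smul]
  | succ k ih => rw [pow_succ, iota_mul (pow_mem hg k) hg, ih, succ_nsmul]

theorem card_smul_eq_zero [Finite G] (u : LL G) : Nat.card G • u = 0 := by
  induction u using induction_iota with
  | h0 => simp
  | hadd a b ha hb => rw [smul_add, ha, hb, add_zero]
  | h1 n g hg => rw [← iota_pow hg, pow_card_eq_one', iota_one]

theorem not_dvd_card [Finite G] (hfpf : ∀ g : G, α g = g → g = 1) {p : ℕ} [hp : Fact p.Prime]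
    (hα : orderOf α = p) : ¬ p ∣ Nat.card G := by
  intro hd
  have hP : IsPGroup p (Subgroup.zpowers α) := by
    refine IsPGroup.of_card (n := 1) ?_
    rw [Nat.card_zpowers, hα, pow_one]
  have h1 : (1 : G) ∈ MulAction.fixedPoints (Subgroup.zpowers α) G :=
    fun σ => map_one (σ : MulAut G)
  obtain ⟨b, hb, hne⟩ := hP.exists_fixed_point_of_prime_dvd_card_of_fixed_point G hd h1
  exact hne (hfpf b (hb ⟨α, Subgroup.mem_zpowers α⟩)).symm

end Induced

section Eigen

open Polynomial

variable (p : ℕ)

/-- The integers with a primitive `p`-th root of unity adjoined. -/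
abbrev Ap : Type := AdjoinRoot (cyclotomic p ℤ)

/-- The adjoined root. -/
noncomputable abbrev omega : Ap p := AdjoinRoot.root (cyclotomic p ℤ)

variable [hp : Fact p.Prime]

theorem sum_omega : ∑ i ∈ Finset.range p, omega p ^ i = 0 := by
  have h : AdjoinRoot.mk (cyclotomic p ℤ) (cyclotomic p ℤ) = 0 := AdjoinRoot.mk_self
  conv at h => lhs; arg 2; rw [cyclotomic_prime ℤ p]
  simpa using h

theorem omega_pow : omega p ^ p = 1 := by
  have h := geom_sum_mul (omega p) p
  rw [sum_omega, zero_mul, eq_comm, sub_eq_zero] at h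
  exact h

/-- The character of `ZMod p`. -/
noncomputable def chi (a : ZMod p) : Ap p := omega p ^ a.val

theorem chi_add (a b : ZMod p) : chi p (a + b) = chi p a * chi p b := by
  rw [chi, chi, chi, ← pow_add, ZMod.val_add]
  exact (pow_eq_pow_mod _ (omega_pow p)).symm

theorem chi_zero : chi p 0 = 1 := by rw [chi, ZMod.val_zero, pow_zero]

theorem sum_zmod {M : Type*} [AddCommMonoid M] (f : ℕ → M) :
    ∑ a : ZMod p, f a.val = ∑ i ∈ Finset.range p, f i := by
  refine Finset.sum_nbij' (fun a => a.val) (fun i => (i : ZMod p)) ?_ ?_ ?_ ?_ ?_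
  · exact fun a _ => Finset.mem_range.2 (ZMod.val_lt a)
  · exact fun i _ => Finset.mem_univ _
  · exact fun a _ => ZMod.natCast_zmod_val a
  · exact fun i hi => ZMod.val_cast_of_lt (Finset.mem_range.1 hi)
  · exact fun a _ => rfl

theorem sum_chi : ∑ a : ZMod p, chi p a = 0 :=
  (sum_zmod p fun i => omega p ^ i).trans (sum_omega p)

variable {G : Type u} [Group G] (α : MulAut G)

/-- The Lie ring over the larger ring. -/
abbrev TT (G : Type u) [Group G] : Type u := Ap p ⊗[ℤ] LL G

/-- The bracket, through the Lie ring structure. -/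
noncomputable local instance (priority := 10000) ttBracket : Bracket (TT p G) (TT p G) :=
  (lieRingSelfModule (L := TT p G)).toBracket

theorem tmul_lie (s t : Ap p) (x y : LL G) :
    ⁅s ⊗ₜ[ℤ] x, t ⊗ₜ[ℤ] y⁆ = (s * t) ⊗ₜ[ℤ] ⁅x, y⁆ :=
  LieAlgebra.ExtendScalars.bracket_tmul ℤ (Ap p) (LL G) (LL G) s t x y

/-- The extended map. -/
noncomputable def beta : TT p G →ₗ[Ap p] TT p G := (aL α).baseChange (Ap p)

theorem beta_lie (u v : TT p G) : beta p α ⁅u, v⁆ = ⁅beta p α u, beta p α v⁆ := by
  induction u using TensorProduct.induction_on with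
  | zero => simp
  | add a b ha hb => simp only [add_lie, map_add, ha, hb]
  | tmul s x =>
    induction v using TensorProduct.induction_on with
    | zero => simp
    | add a b ha hb => simp only [lie_add, map_add, ha, hb]
    | tmul t y =>
      simp only [beta, tmul_lie, LinearMap.baseChange_tmul, aL_lie]

theorem beta_pow_tmul (k : ℕ) (s : Ap p) (x : LL G) :
    (beta p α ^ k) (s ⊗ₜ x) = s ⊗ₜ (aL α ^ k) x := by
  induction k with
  | zero => rfl
  | succ k ih =>
    rw [pow_succ', Module.End.mul_apply, ih, pow_succ', Module.End.mul_apply]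
    exact LinearMap.baseChange_tmul _ _ _

/-- The eigen components. -/
noncomputable def eig : Fam (TT p G) p := fun j =>
  { carrier := {v | beta p α v = chi p j • v}
    add_mem' := fun {a b} (ha : _ = _) (hb : _ = _) => by
      show beta p α (a + b) = chi p j • (a + b)
      rw [map_add, ha, hb, smul_add]
    zero_mem' := by
      show beta p α 0 = chi p j • (0 : TT p G)
      rw [map_zero, smul_zero]
    neg_mem' := fun {a} (ha : _ = _) => by
      show beta p α (-a) = chi p j • (-a)
      rw [map_neg, ha, smul_neg] }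

theorem mem_eig {j : ZMod p} {v : TT p G} : v ∈ eig p α j ↔ beta p α v = chi p j • v := Iff.rfl

variable [Finite G] (hfpf : ∀ g : G, α g = g → g = 1) (hα : orderOf α = p)

include hfpf hα

theorem exists_mul_smul : ∃ m : ℕ, ∀ v : TT p G, m • (p • v) = v := by
  have hp' := hp.out
  have hc : Nat.Coprime p (Nat.card G) := (hp'.coprime_iff_not_dvd).2 (not_dvd_card α hfpf hα)
  rcases Nat.eq_zero_or_pos (Nat.card G - 1) with h1 | h1
  · refine ⟨0, fun v => ?_⟩
    have h2 : Nat.card G = 1 := by have := Nat.card_pos (α := G); omega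
    induction v using TensorProduct.induction_on with
    | zero => simp
    | add a b ha hb => rw [smul_add, smul_add, ha, hb]
    | tmul s x =>
      have := card_smul_eq_zero x
      rw [h2, one_smul] at this
      simp [this]
  · obtain ⟨m, -, hm⟩ := Nat.exists_mul_mod_eq_one_of_coprime hc (by omega)
    refine ⟨m, fun v => ?_⟩
    induction v using TensorProduct.induction_on with
    | zero => simp
    | add a b ha hb => rw [smul_add, smul_add, ha, hb]
    | tmul s x =>
      rw [← mul_nsmul]
      refine (map_nsmul (TensorProduct.mk ℤ (Ap p) (LL G) s) (p * m) x).symm.trans ?_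
      show s ⊗ₜ[ℤ] ((p * m) • x) = _
      rw [← Nat.div_add_mod (p * m) (Nat.card G), hm, add_nsmul, mul_nsmul, card_smul_eq_zero,
        smul_zero, zero_add, one_nsmul]

theorem sum_beta_pow (v : TT p G) : ∑ k ∈ Finset.range p, (beta p α ^ k) v = 0 := by
  induction v using TensorProduct.induction_on with
  | zero => simp
  | add a b ha hb => simp only [map_add, Finset.sum_add_distrib, ha, hb, add_zero]
  | tmul s x =>
    simp only [beta_pow_tmul, ← TensorProduct.tmul_sum,
      sum_aL_pow α hfpf (hα ▸ pow_orderOf_eq_one α) x, TensorProduct.tmul_zero]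

theorem beta_pow_p (v : TT p G) : (beta p α ^ p) v = v := by
  have h := sum_beta_pow p α hfpf hα (beta p α v)
  have h' := sum_beta_pow p α hfpf hα v
  simp only [← Module.End.mul_apply, ← pow_succ] at h
  have h2 := Finset.sum_range_succ' (fun k => (beta p α ^ k) v) p
  rw [Finset.sum_range_succ, h', h, zero_add, zero_add] at h2
  simpa using h2

theorem eig_closed : Closed (eig p α) := by
  refine ⟨fun {a b x y} hx hy => ?_, fun v hv => ?_⟩
  · rw [mem_eig] at hx hy ⊢
    rw [beta_lie, hx, hy]
    refine ((smul_lie (chi p a) x (chi p b • y)).trans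
      (congrArg (chi p a • ·) (lie_smul (chi p b) x y))).trans ?_
    show chi p a • chi p b • ⁅x, y⁆ = _
    rw [smul_smul, chi_add]
  · rw [mem_eig, chi_zero, one_smul] at hv
    have hk : ∀ k, (beta p α ^ k) v = v := fun k => by
      induction k with
      | zero => rfl
      | succ k ih => rw [pow_succ, Module.End.mul_apply, hv, ih]
    have h := sum_beta_pow p α hfpf hα v
    simp only [hk, Finset.sum_const, Finset.card_range] at h
    obtain ⟨m, hm⟩ := exists_mul_smul p α hfpf hα
    rw [← hm v, h, smul_zero]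

theorem mem_iSup_eig (v : TT p G) : v ∈ ⨆ j, eig p α j := by
  obtain ⟨m, hm⟩ := exists_mul_smul p α hfpf hα
  let e : ZMod p → TT p G := fun j => ∑ i : ZMod p, chi p (-(j * i)) • (beta p α ^ i.val) v
  have he : ∀ j, e j ∈ eig p α j := fun j => by
    rw [mem_eig]
    simp only [e, map_sum, map_smul, Finset.smul_sum, smul_smul]
    have hs : ∀ i : ZMod p,
        beta p α ((beta p α ^ i.val) v) = (beta p α ^ (i + 1).val) v := fun i => by
      rw [← Module.End.mul_apply, ← pow_succ', ZMod.val_add, ZMod.val_one]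
      conv_lhs => rw [← Nat.div_add_mod (i.val + 1) p]
      rw [pow_add, pow_mul, Module.End.mul_apply]
      generalize (beta p α ^ ((i.val + 1) % p)) v = w
      generalize (i.val + 1) / p = q
      induction q with
      | zero => rfl
      | succ q ih => rw [pow_succ, Module.End.mul_apply, beta_pow_p p α hfpf hα, ih]
    simp only [hs]
    refine Fintype.sum_equiv (Equiv.addRight (1 : ZMod p)) _ _ fun i => ?_
    rw [Equiv.coe_addRight, ← chi_add]
    congr 2
    ring
  have hsum : ∑ j, e j = p • v := by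
    simp only [e]
    rw [Finset.sum_comm]
    simp only [← Finset.sum_smul]
    rw [Finset.sum_eq_single (0 : ZMod p)]
    · simp only [mul_zero, neg_zero, chi_zero, Finset.sum_const, Finset.card_univ, ZMod.card,
        ZMod.val_zero, pow_zero, Module.End.one_apply]
      rw [smul_assoc, one_smul]
    · intro i _ hi
      rw [Fintype.sum_equiv ((Equiv.mulRight₀ i hi).trans (Equiv.neg _))
        (fun j => chi p (-(j * i))) (chi p) fun j => rfl, sum_chi, zero_smul]
    · exact fun h => absurd (Finset.mem_univ _) h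
  rw [← hm v, ← hsum]
  exact nsmul_mem (sum_mem fun j _ => AddSubgroup.mem_iSup_of_mem j (he j)) m

theorem tmul_iota_mem : ∀ (n : ℕ) (g : G), g ∈ lcs G n →
    (1 : Ap p) ⊗ₜ[ℤ] iota n g ∈ ⨆ a, gam (eig p α) n a := by
  intro n
  induction n with
  | zero => exact fun g _ => mem_iSup_eig p α hfpf hα _
  | succ n ih =>
    intro g hg
    rw [Subgroup.mem_lowerCentralSeries_succ_iff] at hg
    induction hg using Subgroup.closure_induction with
    | one => rw [iota_one, TensorProduct.tmul_zero]; exact zero_mem _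
    | mul x y hx hy ihx ihy =>
      rw [iota_mul hx hy, TensorProduct.tmul_add]; exact add_mem ihx ihy
    | inv x hx ihx => rw [iota_inv hx, TensorProduct.tmul_neg]; exact neg_mem ihx
    | mem x hx =>
      obtain ⟨a, ha, b, -, rfl⟩ := hx
      have hb : b ∈ lcs G 0 := Subgroup.mem_top b
      rw [show n + 1 = n + 0 + 1 by omega, ← lie_iota ha hb,
        show (1 : Ap p) ⊗ₜ[ℤ] ⁅iota n a, iota 0 b⁆ =
          ⁅(1 : Ap p) ⊗ₜ[ℤ] iota n a, (1 : Ap p) ⊗ₜ[ℤ] iota 0 b⁆ by
          rw [tmul_lie, one_mul]]
      have hu := ih a ha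
      have hv := mem_iSup_eig p α hfpf hα ((1 : Ap p) ⊗ₜ[ℤ] iota 0 b)
      generalize (1 : Ap p) ⊗ₜ[ℤ] iota 0 b = v at hv ⊢
      generalize (1 : Ap p) ⊗ₜ[ℤ] iota n a = u at hu ⊢
      induction hu using AddSubgroup.iSup_induction' with
      | hp c u hu =>
        induction hv using AddSubgroup.iSup_induction' with
        | hp d v hv => exact AddSubgroup.mem_iSup_of_mem (c + d) (mem_brk hu hv)
        | h1 => rw [lie_zero]; exact zero_mem _
        | hadd x y _ _ hx hy => rw [lie_add]; exact add_mem hx hy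
      | h1 => rw [zero_lie]; exact zero_mem _
      | hadd x y _ _ hx hy => rw [add_lie]; exact add_mem hx hy

omit hfpf hα [Finite G] in
theorem eq_zero_of_tmul {x : LL G} (h : (1 : Ap p) ⊗ₜ[ℤ] x = 0) : x = 0 := by
  have hg : (cyclotomic p ℤ).Monic := cyclotomic.monic p ℤ
  have hd : 0 < (AdjoinRoot.powerBasis' hg).dim := by
    show 0 < (cyclotomic p ℤ).natDegree
    rw [natDegree_cyclotomic]; exact Nat.totient_pos.2 hp.out.pos
  set f := (AdjoinRoot.powerBasis' hg).basis.coord ⟨0, hd⟩ with hf
  have h1 : f 1 = 1 := by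
    rw [hf, show (1 : Ap p) = (AdjoinRoot.powerBasis' hg).basis ⟨0, hd⟩ by
      rw [PowerBasis.basis_eq_pow, pow_zero], Module.Basis.coord_apply, Module.Basis.repr_self]
    exact Finsupp.single_eq_same
  have := congrArg (TensorProduct.lift ((LinearMap.lsmul ℤ (LL G)).comp f)) h
  simpa [TensorProduct.lift.tmul, h1] using this

theorem lcs_eq_bot_of_gam {c : ℕ}
    (hc : ∀ (j : ZMod p) (x : TT p G), x ∈ gam (eig p α) c j → x = 0) : lcs G c = ⊥ := by
  have hstep : lcs G c ≤ lcs G (c + 1) := by
    intro g hg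
    rw [← iota_eq_zero_iff hg]
    refine eq_zero_of_tmul p ?_
    have h : (⨆ a, gam (eig p α) c a) ≤ ⊥ :=
      iSup_le fun a x hx => (AddSubgroup.mem_bot).2 (hc a x hx)
    exact (AddSubgroup.mem_bot).1 (h (tmul_iota_mem p α hfpf hα c g hg))
  have hnil : Group.IsNilpotent G :=
    FixedPointFreeThompson.isNilpotent α hp.out (hα ▸ pow_orderOf_eq_one α) hfpf
  obtain ⟨N, hN⟩ := Subgroup.nilpotent_iff_lowerCentralSeries.1 hnil
  have hall : ∀ k, lcs G c ≤ lcs G (c + k) := by
    intro k
    induction k with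
    | zero => exact le_rfl
    | succ k ih =>
      refine hstep.trans ?_
      show ⁅lcs G c, ⊤⁆ ≤ ⁅lcs G (c + k), ⊤⁆
      exact Subgroup.commutator_mono ih le_rfl
  exact le_bot_iff.1 ((hall N).trans ((Subgroup.lowerCentralSeries_antitone _ (by omega)).trans hN.le))

end Eigen

end Cfsg.Agent.LieFpf
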